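import Mathlib
import Cfsg.Agent.Lib.Sporadic.ONOut.DataA
import Cfsg.Agent.Lib.Sporadic.ONOut.DataB

/-! The words. -/

set_option autoImplicit false

namespace Cfsg.Agent.Lib.Sporadic.ONOut.Data

open Cfsg.Agent.Lib.Compute.PermCert Cfsg.Agent.Lib.Compute.OutChain Cfsg.Agent.Lib.Compute.OutChainC
open Cfsg.Agent.Lib.Sporadic.ONOut.DataE Cfsg.Agent.Lib.Sporadic.ONOut.DataA Cfsg.Agent.Lib.Sporadic.ONOut.DataB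

/-- The words excluding the other candidates. -/
def kills : List (List Nat × Nat) := [([2, 2], 1), ([2, 0, 1], 11), ([2, 0, 1, 2, 0], 8)]

/-- The words of the images of the letters under the automorphism. -/
def substL : List (List Nat) := [[0,4,3,6,4,6,7,4,2,6,6,1,6,6,3,0,4,4,0,4,5,4,0,2,6,7,3,0,4,3,5,3,2,2,7,5,0,1,4,2,1,7,0,4,5,4,0,2,6,7,3,0,4,3,7,5,0,2,5,5,1,7,5,7,5,3,1,1,3,3,6,1,4,5,5,7,5,3,1,1,3,3,6,1,4,5,6],[0,3,2,6,1,0,2,3,7,1,4,5,3,4,0,1,1,6,1,4,6,1,4,5,3,4,0,1,1,6,1,4,6,0,4,5,4,0,2,6,7,3,0,4,3,1,0,0,7,7,2,3,7,3,4,3,6,4,6,7,4,2,1,3,4,5,1,4,5,0,6,1,2,1,1,4,6,5,6,7,7,4,6,7,3,0,0,2,4],[2,5,3,2,2,7,5,0,1,4,2,1,7,5,4,2,3,2,5,7,7,2,3,6,7,1,6,0,1,1,1,3,4,5,1,4,5,0,6,1,2,1,0,4,1,7,0,3,1,7,7,4,5,6,4,3,6,3,3,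6,3,5,7,5,3,1,1,3,3,6,1,4,5,1,3,7,4,2,4,4,6,3,4,2],[2,5,5,7,2,7,2,6,2,2,4,3,3,0,4,5,4,0,2,6,7,3,0,4,3,1,0,4,1,7,0,3,1,7,7,4,1,3,4,5,1,4,5,0,6,1,2,2,0,7,0,2,3,4,5,2,6,6,6,1,6,6,3,0,4,4,4,3,6,6,7,5,7,5,1,0,4,0,4,5,4,0,2,6,7,3,0,4,3,7],[1,3,4,5,1,4,5,0,6,1,2,2,0,7,0,2,3,4,5,2,6,1,4,5,3,4,0,1,1,6,1,4,6,1,3,4,5,1,4,5,0,6,1,2,0,4,5,4,0,2,6,7,3,0,4,3,1,1,4,6,5,6,7,7,5,3,2,2,7,5,0,1,4,2,1,7,7,4],[3,7,5,7,5,3,1,1,3,3,6,1,4,5,2,0,7,0,2,3,4,5,2,6,5,7,5,3,1,1,3,3,6,1,4,5,2,3,6,7,1,6,0,1,1,1,3,4,5,1,4,5,0,6,1,2,4,3,6,4,6,7,4,2,1,0,4,1,7,0,3,1,7,7,4],[3,5,4,2,3,2,5,7,7,1,4,5,3,4,0,1,1,6,1,4,6,1,1,4,6,5,6,7,7,1,4,5,3,4,0,1,1,6,1,4,6,0,5,1,0,7,5,6,4,7,0,1,3,4,5,1,4,5,0,6,1,2,0,5,1,0,7,5,6,4,7,0,4,3,6,6,7,5,7,5,1,0,4,7],[4,2,0,7,0,2,3,4,5,2,6,4,3,6,4,6,7,4,2,0,5,4,6,1,1,1,3,3,0,2,3,7,1,4,3,3,0,5,4,2,3,2,5,7,7,0,6,7,2,0,1,0,0,3,3,0,7,1,1,4,6,5,6,7,7,1,3,7,4,2,4,4,6,3,4,2,6,6,1,6,6,3,0,4,4]]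

/-- The images of the letters under the automorphism. -/
def subst (x : Nat) : List Nat := substL.getD x []

/-- The element `piE` as a word in the letters. -/
def wP : List Nat := [3,0,4,5,4,0,2,6,7,3,0,4,3,4,0,0,1,7,1,4,5,2,1,7,7,3,2,7,2,1,7,4,2,1,1,3,4,5,1,4,5,0,6,1,2,0,0,3,3,0,7,6,6,1,3,4,5,1,4,5,0,6,1,2,2,0,7,0,2,3,4,5,2,6,0,1,7,1,5,1,3,3,7,6]

end Cfsg.Agent.Lib.Sporadic.ONOut.Data
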