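import Mathlib
import Cfsg.Agent.Lib.Compute.OutFast
import Cfsg.Agent.Lib.Compute.OutPres
import Cfsg.Agent.Lib.Compute.OutChunk2
import Cfsg.Agent.Lib.Sporadic.ONOut.Data
import Cfsg.Agent.Lib.Sporadic.ONOut.GensE
import Cfsg.Agent.Lib.Sporadic.ONOut.GensA0
import Cfsg.Agent.Lib.Sporadic.ONOut.GensA1
import Cfsg.Agent.Lib.Sporadic.ONOut.GensA2

/-! The kernel checks for the outer automorphism group of the group ON. -/

set_option autoImplicit false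
set_option maxRecDepth 100000
set_option Elab.async false

namespace Cfsg.Agent.Lib.Sporadic.ONOut.GensA

open Cfsg.Agent.Lib.Compute.PermCert Cfsg.Agent.Lib.Compute.OutChain Cfsg.Agent.Lib.Compute.OutFinal
open Cfsg.Agent.Lib.Compute.OutChainC Cfsg.Agent.Lib.Compute.OutFinal2 Cfsg.Agent.Lib.Compute.OutPres
open Cfsg.Agent.Lib.Compute.OutChunk Cfsg.Agent.Lib.Compute.OutChunk2
open Cfsg.Agent.Lib.Compute.ToddCoxeterCore (frc)
open Cfsg.Agent.Lib.Sporadic.ONOut.GensE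
open Cfsg.Agent.Lib.Sporadic.ONOut.DataE Cfsg.Agent.Lib.Sporadic.ONOut.DataA Cfsg.Agent.Lib.Sporadic.ONOut.DataB Cfsg.Agent.Lib.Sporadic.ONOut.Data

theorem gens_ok : gensWL LL 122760 17 ev lvA0.gens lvA0.gw = true := by
  show gensWL LL 122760 17 ev [lvA0e0, lvA0e1, lvA0e2] [lvA0w0, lvA0w1, lvA0w2] = true
  exact (gensWL_cons Cfsg.Agent.Lib.Sporadic.ONOut.GensA0.ok (gensWL_cons Cfsg.Agent.Lib.Sporadic.ONOut.GensA1.ok (gensWL_cons Cfsg.Agent.Lib.Sporadic.ONOut.GensA2.ok rfl)))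

end Cfsg.Agent.Lib.Sporadic.ONOut.GensA
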