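import Mathlib
import Cfsg.Agent.Lib.Compute.OutFast
import Cfsg.Agent.Lib.Compute.OutPres
import Cfsg.Agent.Lib.Compute.OutChunk2
import Cfsg.Agent.Lib.Sporadic.ONOut.Data

/-! The kernel checks for the outer automorphism group of the group ON. -/

set_option autoImplicit false
set_option maxRecDepth 100000
set_option Elab.async false

namespace Cfsg.Agent.Lib.Sporadic.ONOut.SiftP

open Cfsg.Agent.Lib.Compute.PermCert Cfsg.Agent.Lib.Compute.OutChain Cfsg.Agent.Lib.Compute.OutFinal
open Cfsg.Agent.Lib.Compute.OutChainC Cfsg.Agent.Lib.Compute.OutFinal2 Cfsg.Agent.Lib.Compute.OutPres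
open Cfsg.Agent.Lib.Compute.OutChunk Cfsg.Agent.Lib.Compute.OutChunk2
open Cfsg.Agent.Lib.Compute.ToddCoxeterCore (frc)
open Cfsg.Agent.Lib.Sporadic.ONOut.DataE Cfsg.Agent.Lib.Sporadic.ONOut.DataA Cfsg.Agent.Lib.Sporadic.ONOut.DataB Cfsg.Agent.Lib.Sporadic.ONOut.Data

/-- The remainder of the element after the sift. -/
noncomputable def G (a : Nat) : Nat :=
  frc (frc (frc (LL piE.f a)
  (invUL LL LT 17 131071 lvA0 12 49219))
  (invUL LL LT 17 131071 lvA1 8 8094))
  (invUL LL LT 17 131071 lvA2 3 52612)

noncomputable def fn : Nat → Bool := fun i => Nat.beq (G i) i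

theorem ok0 : chunkOK fn 122760 14 0 = true := by decide +kernel
theorem ok1 : chunkOK fn 122760 14 16384 = true := by decide +kernel
theorem ok2 : chunkOK fn 122760 14 32768 = true := by decide +kernel
theorem ok3 : chunkOK fn 122760 14 49152 = true := by decide +kernel
theorem ok4 : chunkOK fn 122760 14 65536 = true := by decide +kernel
theorem ok5 : chunkOK fn 122760 14 81920 = true := by decide +kernel
theorem ok6 : chunkOK fn 122760 14 98304 = true := by decide +kernel
theorem ok7 : chunkOK fn 122760 14 114688 = true := by decide +kernel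

theorem ok : allN fn 122760 17 = true := by
  refine allN_of_chunks (e := 14) (c := 8) (by norm_num) (by norm_num) fun j hj => ?_
  interval_cases j
  · exact ok0
  · exact ok1
  · exact ok2
  · exact ok3
  · exact ok4
  · exact ok5
  · exact ok6
  · exact ok7

theorem sift : siftL LL LT 17 131071 122760 17 (lrlvA.map Prod.fst) (LL piE.f) = true := by
  show siftL LL LT 17 131071 122760 17 [lvA0, lvA1, lvA2] (LL piE.f) = true
  exact (siftL_step 49219 12 (by decide +kernel) (by decide +kernel)
    (siftL_step 8094 8 (by decide +kernel) (by decide +kernel)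
    (siftL_step 52612 3 (by decide +kernel) (by decide +kernel)
    (siftL_nil ok))))

end Cfsg.Agent.Lib.Sporadic.ONOut.SiftP
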