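import Mathlib
import Cfsg.Agent.Lib.Compute.OutFast
import Cfsg.Agent.Lib.Compute.OutPres
import Cfsg.Agent.Lib.Sporadic.ONOut.Data
import Cfsg.Agent.Lib.Compute.TC.ONT.Final

/-! The kernel checks for the outer automorphism group of the group ON. -/

set_option autoImplicit false
set_option maxRecDepth 100000

namespace Cfsg.Agent.Lib.Sporadic.ONOut.Words

open Cfsg.Agent.Lib.Compute.PermCert Cfsg.Agent.Lib.Compute.OutChain Cfsg.Agent.Lib.Compute.OutFinal
open Cfsg.Agent.Lib.Compute.OutChainC Cfsg.Agent.Lib.Compute.OutFinal2 Cfsg.Agent.Lib.Compute.OutPres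
open Cfsg.Agent.Lib.Compute.TC
open Cfsg.Agent.Lib.Sporadic.ONOut.DataE Cfsg.Agent.Lib.Sporadic.ONOut.DataA Cfsg.Agent.Lib.Sporadic.ONOut.DataB Cfsg.Agent.Lib.Sporadic.ONOut.Data

theorem hsl : ∀ x, x < ONT.cfg.L → ∀ y ∈ subst x, y < ONT.cfg.L := by decide +kernel
theorem hinvW : ∀ x, x < ONT.cfg.L →
    wordsAgree ONT.cfg (baseL (lrlvB.map Prod.fst)) (subst x ++ subst (ONT.cfg.inv x)) [] = true := by decide +kernel
theorem hrelW : ∀ u ∈ ONT.relsL, wordsAgree ONT.cfg (baseL (lrlvB.map Prod.fst)) (u.flatMap subst) [] = true := by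
  decide +kernel
theorem hwP : ∀ x ∈ wP, x < ONT.cfg.L := by decide +kernel
theorem hwPe : (baseL (lrlvB.map Prod.fst)).all (fun b => Nat.beq (LL piE.f b) (ONT.cfg.walkEnd wP b)) = true := by
  decide +kernel
theorem hσW : wordsAgree ONT.cfg (baseL (lrlvB.map Prod.fst)) (wP.flatMap subst) (List.replicate 30 wP).flatten = true := by
  decide +kernel

end Cfsg.Agent.Lib.Sporadic.ONOut.Words
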