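import Mathlib
import Cfsg.Agent.Lib.Sporadic.ONOut.LvA0
import Cfsg.Agent.Lib.Sporadic.ONOut.LvA1
import Cfsg.Agent.Lib.Sporadic.ONOut.LvA2
import Cfsg.Agent.Lib.Sporadic.ONOut.LvB0
import Cfsg.Agent.Lib.Sporadic.ONOut.LvB1
import Cfsg.Agent.Lib.Sporadic.ONOut.LvB2
import Cfsg.Agent.Lib.Sporadic.ONOut.LvB3
import Cfsg.Agent.Lib.Sporadic.ONOut.NxA0g0
import Cfsg.Agent.Lib.Sporadic.ONOut.NxA0g1
import Cfsg.Agent.Lib.Sporadic.ONOut.NxA0g2
import Cfsg.Agent.Lib.Sporadic.ONOut.NxA1g0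
import Cfsg.Agent.Lib.Sporadic.ONOut.NxA1g1
import Cfsg.Agent.Lib.Sporadic.ONOut.NxA1g2
import Cfsg.Agent.Lib.Sporadic.ONOut.NxB0g0
import Cfsg.Agent.Lib.Sporadic.ONOut.NxB0g1
import Cfsg.Agent.Lib.Sporadic.ONOut.NxB0g2
import Cfsg.Agent.Lib.Sporadic.ONOut.NxB1g0
import Cfsg.Agent.Lib.Sporadic.ONOut.NxB1g1
import Cfsg.Agent.Lib.Sporadic.ONOut.NxB1g2
import Cfsg.Agent.Lib.Sporadic.ONOut.NxB2g0
import Cfsg.Agent.Lib.Sporadic.ONOut.NxB2g1
import Cfsg.Agent.Lib.Sporadic.ONOut.SearchA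
import Cfsg.Agent.Lib.Sporadic.ONOut.SearchB
import Cfsg.Agent.Lib.Sporadic.ONOut.SiftP
import Cfsg.Agent.Lib.Sporadic.ONOut.SiftR
import Cfsg.Agent.Lib.Sporadic.ONOut.SiftY
import Cfsg.Agent.Lib.Sporadic.ONOut.Misc
import Cfsg.Agent.Lib.Sporadic.ONOut.GensA
import Cfsg.Agent.Lib.Sporadic.ONOut.SearchN
import Cfsg.Agent.Lib.Sporadic.ONOut.Words
import Cfsg.Agent.S1699

/-! The outer automorphism group of the group ON. -/

set_option autoImplicit false
set_option maxRecDepth 100000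

namespace Cfsg.Agent.Lib.Sporadic.ONOut.Main

open Cfsg Cfsg.Agent.Lib.Compute.PermCert Cfsg.Agent.Lib.Compute.OutChain Cfsg.Agent.Lib.Compute.OutFinal
open Cfsg.Agent.Lib.Compute.OutChainC Cfsg.Agent.Lib.Compute.OutFinal2 Cfsg.Agent.Lib.Compute.OutPres
  Cfsg.Agent.Lib.Compute.OutFast
open Cfsg.Agent.Lib.Compute.ToddCoxeterCore Cfsg.Agent.Lib.Compute.ToddCoxeterPresented
  Cfsg.Agent.Lib.Compute.TCFast Cfsg.Agent.Lib.Compute.TCChain
open Cfsg.Agent.Lib.Compute.TC Cfsg.Agent.Lib.Compute.PermOut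
open Cfsg.Agent.Lib.Sporadic.ONOut.DataE Cfsg.Agent.Lib.Sporadic.ONOut.DataA Cfsg.Agent.Lib.Sporadic.ONOut.DataB Cfsg.Agent.Lib.Sporadic.ONOut.Data Cfsg.Agent.Lib.Sporadic.ONOut.SearchA Cfsg.Agent.Lib.Sporadic.ONOut.SearchB Cfsg.Agent.Lib.Sporadic.ONOut.Misc Cfsg.Agent.Lib.Sporadic.ONOut.GensE Cfsg.Agent.Lib.Sporadic.ONOut.GensA Cfsg.Agent.Lib.Sporadic.ONOut.SearchN Cfsg.Agent.Lib.Sporadic.ONOut.Words

/-- The homomorphism from the presented group. -/
noncomputable abbrev phi := phiG ONT.hR ONT.small ONT.big ONT.hgens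

/-- The group as a permutation group. -/
noncomputable def K : Subgroup (Equiv.Perm (Fin 122760)) := phi.range

theorem card_K : Nat.card K = 460815505920 := by
  have h1 : Nat.card K = Nat.card (PresentedGroup ONT.RR) :=
    (Nat.card_congr (MonoidHom.ofInjective S1699.inj.1).toEquiv).symm
  rw [h1, S1699.inj.2]

theorem out_eq : Nat.card (Out Cfsg.Spor.ON) = Nat.card (Out K) :=
  card_out_congr (A := PresentedGroup ONT.RR) (MonoidHom.ofInjective S1699.inj.1)

theorem hd : 122760 ≤ 2 ^ 17 := by norm_num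

theorem hr : Readers LL LT 17 131071 29 536870911 :=
  Readers.mk' (by decide +kernel) (by decide +kernel) (by decide +kernel) (by decide +kernel) (by decide +kernel) (by decide +kernel)

theorem hLL : LL = get 17 131071 := funext fun p => funext fun i => hr.hL p i

theorem nextL_one_cons {L : Nat → Nat → Nat} {N' d' : Nat} {gens : List Elt} {b : Nat} {t : Elt} {ts : List Elt} {u : List Nat}
    {us : List (List Nat)} (h : nextL L N' d' gens b [t] [u] = true) (h' : nextL L N' d' gens b ts us = true) :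
    nextL L N' d' gens b (t :: ts) (u :: us) = true := by
  rw [nextL] at h ⊢
  cases h1 : allN (fun i => Nat.beq (L t.f i) (wordL L gens u i)) N' d'
  · rw [h1] at h
    exact h
  · rw [h1] at h
    cases h2 : Nat.beq (L t.f b) b
    · rw [h2] at h
      exact h
    · exact h'

theorem ev_spec (j : Nat) : ∃ x ∈ K, ∀ i : Fin 122760, ev j i = x i :=
  ⟨phi (elG ONT.D ONT.RR j), ⟨_, rfl⟩, fun i =>
    (ev0_ok ONT.hR ONT.small ONT.big ONT.hgens j i).1⟩

theorem chkA : chkChain 17 131071 122760 29 536870911 (lrlvA.map Prod.fst) = true := by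
  show chkChain 17 131071 122760 29 536870911 [lvA0, lvA1, lvA2] = true
  have h2 : chkChain 17 131071 122760 29 536870911 [lvA2] = true := by
    refine chkChain_cons ?_ ?_ rfl
    · rw [← chkLvL_eq hr hd]; exact Cfsg.Agent.Lib.Sporadic.ONOut.LvA2.lv_ok
    · rw [← nextL_eq hr.hL hd]; rfl
  have h1 : chkChain 17 131071 122760 29 536870911 [lvA1, lvA2] = true := by
    refine chkChain_cons ?_ ?_ h2
    · rw [← chkLvL_eq hr hd]; exact Cfsg.Agent.Lib.Sporadic.ONOut.LvA1.lv_ok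
    · rw [← nextL_eq hr.hL hd]
      show nextL LL 122760 17 lvA1.gens lvA1.b [lvA2e0, lvA2e1, lvA2e2] [lvA2w0, lvA2w1, lvA2w2] = true
      exact nextL_one_cons Cfsg.Agent.Lib.Sporadic.ONOut.NxA1g0.nx_ok (nextL_one_cons Cfsg.Agent.Lib.Sporadic.ONOut.NxA1g1.nx_ok (nextL_one_cons Cfsg.Agent.Lib.Sporadic.ONOut.NxA1g2.nx_ok (rfl)))
  have h0 : chkChain 17 131071 122760 29 536870911 [lvA0, lvA1, lvA2] = true := by
    refine chkChain_cons ?_ ?_ h1
    · rw [← chkLvL_eq hr hd]; exact Cfsg.Agent.Lib.Sporadic.ONOut.LvA0.lv_ok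
    · rw [← nextL_eq hr.hL hd]
      show nextL LL 122760 17 lvA0.gens lvA0.b [lvA1e0, lvA1e1, lvA1e2] [lvA1w0, lvA1w1, lvA1w2] = true
      exact nextL_one_cons Cfsg.Agent.Lib.Sporadic.ONOut.NxA0g0.nx_ok (nextL_one_cons Cfsg.Agent.Lib.Sporadic.ONOut.NxA0g1.nx_ok (nextL_one_cons Cfsg.Agent.Lib.Sporadic.ONOut.NxA0g2.nx_ok (rfl)))
  exact h0

theorem chkB : chkChain 17 131071 122760 29 536870911 (lrlvB.map Prod.fst) = true := by
  show chkChain 17 131071 122760 29 536870911 [lvB0, lvB1, lvB2, lvB3] = true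
  have h3 : chkChain 17 131071 122760 29 536870911 [lvB3] = true := by
    refine chkChain_cons ?_ ?_ rfl
    · rw [← chkLvL_eq hr hd]; exact Cfsg.Agent.Lib.Sporadic.ONOut.LvB3.lv_ok
    · rw [← nextL_eq hr.hL hd]; rfl
  have h2 : chkChain 17 131071 122760 29 536870911 [lvB2, lvB3] = true := by
    refine chkChain_cons ?_ ?_ h3
    · rw [← chkLvL_eq hr hd]; exact Cfsg.Agent.Lib.Sporadic.ONOut.LvB2.lv_ok
    · rw [← nextL_eq hr.hL hd]
      show nextL LL 122760 17 lvB2.gens lvB2.b [lvB3e0, lvB3e1] [lvB3w0, lvB3w1] = true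
      exact nextL_one_cons Cfsg.Agent.Lib.Sporadic.ONOut.NxB2g0.nx_ok (nextL_one_cons Cfsg.Agent.Lib.Sporadic.ONOut.NxB2g1.nx_ok (rfl))
  have h1 : chkChain 17 131071 122760 29 536870911 [lvB1, lvB2, lvB3] = true := by
    refine chkChain_cons ?_ ?_ h2
    · rw [← chkLvL_eq hr hd]; exact Cfsg.Agent.Lib.Sporadic.ONOut.LvB1.lv_ok
    · rw [← nextL_eq hr.hL hd]
      show nextL LL 122760 17 lvB1.gens lvB1.b [lvB2e0, lvB2e1, lvB2e2] [lvB2w0, lvB2w1, lvB2w2] = true
      exact nextL_one_cons Cfsg.Agent.Lib.Sporadic.ONOut.NxB1g0.nx_ok (nextL_one_cons Cfsg.Agent.Lib.Sporadic.ONOut.NxB1g1.nx_ok (nextL_one_cons Cfsg.Agent.Lib.Sporadic.ONOut.NxB1g2.nx_ok (rfl)))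
  have h0 : chkChain 17 131071 122760 29 536870911 [lvB0, lvB1, lvB2, lvB3] = true := by
    refine chkChain_cons ?_ ?_ h1
    · rw [← chkLvL_eq hr hd]; exact Cfsg.Agent.Lib.Sporadic.ONOut.LvB0.lv_ok
    · rw [← nextL_eq hr.hL hd]
      show nextL LL 122760 17 lvB0.gens lvB0.b [lvB1e0, lvB1e1, lvB1e2] [lvB1w0, lvB1w1, lvB1w2] = true
      exact nextL_one_cons Cfsg.Agent.Lib.Sporadic.ONOut.NxB0g0.nx_ok (nextL_one_cons Cfsg.Agent.Lib.Sporadic.ONOut.NxB0g1.nx_ok (nextL_one_cons Cfsg.Agent.Lib.Sporadic.ONOut.NxB0g2.nx_ok (rfl)))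
  exact h0

theorem ordA : ordC (lrlvA.map Prod.fst) = 460815505920 := by decide +kernel
theorem ordB : ordC (lrlvB.map Prod.fst) = 460815505920 := by decide +kernel

theorem hA : ChainFor 17 131071 122760 29 536870911 K (lrlvA.map Prod.fst) := by
  refine ⟨chkA, ?_, by rw [ordA, card_K]⟩
  exact gensW_le hd ev_spec (hdG_valid chkA) ((gensWL_eq hr.hL _ _ _).symm.trans gens_ok)

theorem vals : [piE, rhoE, yE].all (validB 17 131071 122760) = true := by
  have h := hdG_valid chkB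
  rw [show hdG (lrlvB.map Prod.fst) = [piE, rhoE, yE] from rfl] at h
  exact h

theorem vP : validB 17 131071 122760 piE = true := by
  have := vals
  simp only [List.all_cons, List.all_nil, Bool.and_true, Bool.and_eq_true] at this
  exact this.1
theorem vR : validB 17 131071 122760 rhoE = true := by
  have := vals
  simp only [List.all_cons, List.all_nil, Bool.and_true, Bool.and_eq_true] at this
  exact this.2.1
theorem vY : validB 17 131071 122760 yE = true := by
  have := vals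
  simp only [List.all_cons, List.all_nil, Bool.and_true, Bool.and_eq_true] at this
  exact this.2.2

theorem memOf {X : Equiv.Perm (Fin 122760)} {g : Nat → Nat} (hg : ∀ i : Fin 122760, g i = X i)
    (hs : siftL LL LT 17 131071 122760 17 (lrlvA.map Prod.fst) g = true) : X ∈ K := by
  rw [siftL_eq hr hd] at hs
  exact hA.le (siftC_sound _ X g hA.chk hg hs)

theorem mP : permOf 17 131071 122760 piE ∈ K := memOf (by rw [hLL]; exact gt_eq vP) Cfsg.Agent.Lib.Sporadic.ONOut.SiftP.sift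
theorem mR : permOf 17 131071 122760 rhoE ∈ K := memOf (by rw [hLL]; exact gt_eq vR) Cfsg.Agent.Lib.Sporadic.ONOut.SiftR.sift
theorem mY : permOf 17 131071 122760 yE ∈ K := memOf (by rw [hLL]; exact gt_eq vY) Cfsg.Agent.Lib.Sporadic.ONOut.SiftY.sift

theorem hB : ChainFor 17 131071 122760 29 536870911 K (lrlvB.map Prod.fst) := by
  refine ⟨chkB, ?_, by rw [ordB, card_K]⟩
  refine (Subgroup.closure_le _).mpr ?_
  rintro _ ⟨e, he, rfl⟩
  have he' : e ∈ [piE, rhoE, yE] := he
  simp only [List.mem_cons, List.not_mem_nil, or_false] at he'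
  rcases he' with rfl | rfl | rfl
  · exact mP
  · exact mR
  · exact mY

instance factP : Fact (Nat.Prime 31) := ⟨by norm_num⟩

theorem hpow : permOf 17 131071 122760 piE ^ 31 = 1 :=
  pow_of_base hA vP mP (by have h := powP; rw [hLL] at h; exact h)

theorem hRq : permOf 17 131071 122760 rhoE ^ 15 = 1 :=
  pow_of_base hA vR mR (by have h := powR; rw [hLL] at h; exact h)

theorem hrel : permOf 17 131071 122760 rhoE * permOf 17 131071 122760 piE = permOf 17 131071 122760 piE ^ 9 * permOf 17 131071 122760 rhoE :=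
  rel_of_base hA vP vR mP mR (by have h := relR; rw [hLL] at h; exact h)

theorem hkF : killsOK 122760 17 (gt 17 131071 piE) (gt 17 131071 rhoE) (gt 17 131071 yE) kills = true :=
  killsOK_of_base hA hd mP mR mY (gt_eq vP) (gt_eq vR) (gt_eq vY) (by have h := kF; rw [hLL] at h; exact h)

theorem hconjP : ∀ x ∈ K, x * permOf 17 131071 122760 piE = permOf 17 131071 122760 piE ^ 9 * x →
    ∃ c : ℕ, x = permOf 17 131071 122760 piE ^ c * permOf 17 131071 122760 rhoE * (permOf 17 131071 122760 piE ^ c)⁻¹ := by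
  refine hconjS_of_search hA hd vP vR mP mR hpow ?_
  have hs := sA
  rw [searchL_eq hr hd, hLL] at hs
  exact search_useP hA (X := permOf 17 131071 122760 piE) (X' := permOf 17 131071 122760 piE ^ 9) (gt_eq vP)
    (fun i => by rw [iterF_eq]; exact iter_eq (gt_eq vP) _ _) (by have h := ruA; rw [hLL] at h; exact h) hs

theorem vZ' : validB 17 131071 122760 zE = true := by
  rw [← validL_eq hr.hL hd]
  exact vZ

theorem hZ : permOf 17 131071 122760 zE = permOf 17 131071 122760 rhoE ^ 3 := by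
  refine eq_of_check (gt_eq vZ') (fun i => ?_) hd (by have h := zEq; rw [hLL] at h; exact h)
  rw [iterF_eq]
  exact iter_eq (gt_eq vR) _ _

theorem mZ : permOf 17 131071 122760 zE ∈ K := by
  rw [hZ]
  exact K.pow_mem mR _

theorem hyZ : permOf 17 131071 122760 yE * permOf 17 131071 122760 zE = permOf 17 131071 122760 zE * permOf 17 131071 122760 yE :=
  comm_of_base hA vY vZ' mY mZ (by have h := commYZ; rw [hLL] at h; exact h)

theorem hnotP : ∀ x ∈ K, x * permOf 17 131071 122760 piE ≠ permOf 17 131071 122760 piE ^ 30 * x := by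
  intro x hx h
  have hs := sN
  rw [searchL_eq hr hd, hLL] at hs
  obtain ⟨vf, vi, -, hl⟩ := search_useP hA (X := permOf 17 131071 122760 piE) (X' := permOf 17 131071 122760 piE ^ 30) (gt_eq vP)
    (fun i => by rw [iterF_eq]; exact iter_eq (gt_eq vP) _ _) (by have h := ruA; rw [hLL] at h; exact h) hs x hx (fun y => by
      have := congrArg (fun g : Equiv.Perm (Fin 122760) => g y) h
      simpa [Equiv.Perm.mul_apply] using this)
  simp at hl

theorem hleafB : ∀ c ∈ K, (∀ a, c (permOf 17 131071 122760 zE a) = permOf 17 131071 122760 zE (c a)) →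
    ∃ vf vi, Rep c vf vi ∧ finLeafT 17 131071 piE rhoE yE [] kills (baseL (lrlvB.map Prod.fst)) vf vi = true := by
  have hs := sB
  rw [searchL_eq hr hd, hLL] at hs
  exact search_useP hB (X := permOf 17 131071 122760 zE) (X' := permOf 17 131071 122760 zE) (gt_eq vZ') (gt_eq vZ')
    (by have h := ruB; rw [hLL] at h; exact h) hs

theorem hwPe' : (baseL (lrlvB.map Prod.fst)).all (fun b => Nat.beq (gt 17 131071 piE b) (ONT.cfg.walkEnd wP b)) = true := by
  have h := hwPe
  rw [hLL] at h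
  exact h

/-- The outer automorphism group of the group. -/
theorem card_out : Nat.card (Out Cfsg.Spor.ON) = 2 := by
  rw [out_eq]
  haveI : Finite (PresentedGroup ONT.RR) := S1699.finG
  refine card_out_two_pres (hR := ONT.hR) (hs := ONT.small) (hb := ONT.big) (hgens := ONT.hgens)
    (w := 17) (m := 131071) (tw := 29) (tm := 536870911) (d := 17)
    (p := 31) (r := 9) (a := 30) (q := 15) (zk := 3) (pe := piE) (re := rhoE) (ye := yE) (ze := zE)
    (kills := kills) (ts := []) (lrB := lrlvB) S1699.result.1 S1699.inj.1 hB hd rfl vP vR vY ?_ hpow ?_ hrel hRq ?_ ?_ subst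
    hsl hinvW ONT.relLt hrelW wP hwP hwPe' hσW ?_ hnotP ?_ hZ hyZ hleafB hkF
  · show ¬ 31 ^ 2 ∣ Nat.card K
    rw [card_K]; norm_num
  · exact ne_one_of_point vP (i := 0) (by norm_num) (by decide +kernel)
  · exact hexp2_of_check (by norm_num) (by decide)
  · norm_num
  · intro x hx h _
    exact hconjP x hx h
  · intro t ht
    simp at ht

end Cfsg.Agent.Lib.Sporadic.ONOut.Main
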